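import Cfsg.Agent.CH.Dl1

/-! Class numbers of solvable groups, logarithmic lower bound: the frame (`DD`, `Hy`, `PP`). -/

set_option autoImplicit false

namespace Cfsg.Agent.KLog

open Subgroup Cfsg.Agent.CH.Reg Cfsg.Agent.CH.Kc
open scoped commutatorElement

section
variable {G : Type} (V : Type) [Group G] [AddCommGroup V] [DistribMulAction G V]

/-- The elements commuting with `a` in their action on `V`. -/
def DD (a : G) : Subgroup G :=
  (centralizer {MulAction.toPermHom G V a}).comap (MulAction.toPermHom G V)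

/-- `a` acts with prime order `p ≥ 53` and generates a normal subgroup modulo the kernel. -/
structure Hy (p : ℕ) (a : G) : Prop where
  pp : p.Prime
  big : 53 ≤ p
  ne : a ∉ aK G V
  pow : a ^ p ∈ aK G V
  nrm : ∀ g : G, ∃ k : ℕ, ∀ v : V, (g * a * g⁻¹) • v = a ^ k • v

/-- A normal subgroup `T ∋ a`, abelian on `V`, of small index and small automizer. -/
def PP (a : G) : Prop :=
  ∃ T C : Subgroup G, T.Normal ∧ a ∈ T ∧ aK G V ≤ T ∧ T ≤ C ∧ C ≤ DD V a ∧
    (∀ c ∈ C, ∀ x ∈ T, ⁅c, x⁆ ∈ aK G V) ∧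
    (T.relIndex (DD V a) * C.relIndex (DD V a)) ^ 3 * max (2 ^ (DD V a).index) 54 ^ 2 ≤
      Nat.card V ^ 3

variable {V}

theorem mem_DD {a g : G} : g ∈ DD V a ↔ ∀ v : V, g • a • v = a • g • v := by
  rw [DD, mem_comap, mem_centralizer_singleton_iff]
  exact Equiv.ext_iff

theorem DD_eq [FaithfulSMul G V] (a : G) : DD V a = centralizer {a} := by
  ext g
  rw [mem_DD, mem_centralizer_singleton_iff]
  refine ⟨fun h => FaithfulSMul.eq_of_smul_eq_smul (α := V) fun v => ?_, fun h v => ?_⟩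
  · rw [mul_smul, mul_smul, h]
  · rw [← mul_smul, h, mul_smul]

theorem aK_eq [FaithfulSMul G V] : aK G V = ⊥ :=
  eq_bot_iff.2 fun _ h => FaithfulSMul.eq_of_smul_eq_smul (α := V) fun v => by
    rw [mem_aK.1 h, one_smul]

end

end Cfsg.Agent.KLog
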