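import Cfsg.Agent.KLog.A

/-! Class numbers of solvable groups, logarithmic lower bound: the module statement `Core`. -/

set_option autoImplicit false

namespace Cfsg.Agent.KLog

/-- The module form of the bound. -/
def Core : Prop :=
  ∀ (H V : Type) [Group H] [Finite H] [Group.IsSolvable H] [AddCommGroup V] [Finite V]
    [Nontrivial V] [DistribMulAction H V] (p : ℕ), p.Prime → 53 ≤ p → ∀ A : Subgroup H, A.Normal →
    (∀ x ∈ A, ∀ y ∈ A, x * y = y * x) → (∀ x ∈ A, x ^ p = 1) → ¬ p ∣ Nat.card V →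
    (∀ v : V, (∀ x ∈ A, x • v = v) → v = 0) →
    ∃ m : ℕ, 0 < m ∧ p - 1 ≤ Nat.card (ConjClasses H) * m ∧
      2 ^ m ≤ ((Nat.card (ConjClasses H) + (Nat.card (MulAction.orbitRel.Quotient H V) - 1)) * m) ^ 3

end Cfsg.Agent.KLog
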