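import Mathlib

/-! Counting linear characters of a subgroup against the class number. -/
set_option autoImplicit false
namespace Cfsg.Agent.KLog
open Subgroup

variable {H : Type*} [Group H] {T : Subgroup H}

open Classical in
/-- extension by zero -/
noncomputable def ext0 (μ : T →* ℂˣ) (y : H) : ℂ := if hy : y ∈ T then (μ ⟨y, hy⟩ : ℂ) else 0

theorem cnt_inner [Fintype T] (μ ν : T →* ℂˣ) (h : H) :
    (∃ n : ℕ, ∑ x : T, ext0 μ (h * x * h⁻¹) * ((ν x)⁻¹ : ℂˣ) = n) ∧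
    (∑ x : T, ext0 μ (h * x * h⁻¹) * ((ν x)⁻¹ : ℂˣ) ≠ 0 → ∀ x y : T, (y : H) = h * x * h⁻¹ → μ y = ν x) := by
  classical
  let W : Subgroup T := (T.comap (MulAut.conj h).toMonoidHom).subgroupOf T
  let c : W →* T := ((MulAut.conj h).toMonoidHom.comp (T.subtype.comp W.subtype)).codRestrict T fun x => x.2
  let χ : W →* ℂ := (Units.coeHom ℂ).comp (μ.comp c * (ν.comp W.subtype)⁻¹)
  have e : ∑ x : T, ext0 μ (h * x * h⁻¹) * ((ν x)⁻¹ : ℂˣ) = ∑ x : W, χ x := by
    rw [← Finset.sum_subset (Finset.subset_univ (Finset.univ.filter (· ∈ W))) fun x _ hx => by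
      have : h * x * h⁻¹ ∉ T := fun a => hx (Finset.mem_filter.2 ⟨Finset.mem_univ _, a⟩)
      simp [ext0, this]]
    refine Finset.sum_subtype_of_mem _ (fun x hx => (Finset.mem_filter.1 hx).2) |>.symm.trans ?_
    rw [show (Finset.univ.filter (· ∈ W)).subtype (· ∈ W) = Finset.univ by ext x; simp]
    refine Finset.sum_congr rfl fun x _ => ?_
    have : h * (x : T) * h⁻¹ ∈ T := x.2
    simp only [ext0, this, dif_pos, χ, MonoidHom.comp_apply, MonoidHom.mul_apply, MonoidHom.inv_apply, map_mul]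
    rfl
  rw [e]
  by_cases k : χ = 1
  · refine ⟨⟨Fintype.card W, by simp [k]⟩, fun _ x y a => ?_⟩
    have hx : x ∈ W := show h * x * h⁻¹ ∈ T from a ▸ y.2
    have := DFunLike.congr_fun k ⟨x, hx⟩
    rw [show y = c ⟨x, hx⟩ from Subtype.ext a]
    exact mul_inv_eq_one.1 (Units.val_eq_one.1 this)
  · rw [sum_hom_units_eq_zero χ k]; exact ⟨⟨0, by simp⟩, fun a => absurd rfl a⟩

theorem cnt {H : Type*} [Group H] [Finite H] {A A1 T C K : Subgroup H} [hA : A.Normal] (hAT : A ≤ T)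
    (hK : ∀ h : H, (∀ x ∈ A, h * x * h⁻¹ ∈ A1 ↔ x ∈ A1) → h ∈ K) (hTK : ∀ h ∈ K, ∀ x ∈ T, h * x * h⁻¹ ∈ T)
    (hC : C ≤ K) (S : Finset (T →* ℂˣ)) (h1 : ∀ μ ∈ S, ∀ x : T, (x : H) ∈ A → (μ x = 1 ↔ (x : H) ∈ A1))
    (h2 : ∀ μ ∈ S, ∀ c ∈ C, ∀ x y : T, (y : H) = c * x * c⁻¹ → μ y = μ x) :
    S.card ≤ Nat.card (ConjClasses H) * C.relIndex K := by
  classical
  have _ := hC
  have := Fintype.ofFinite H
  have := Fintype.ofFinite (ConjClasses H)
  let r : Setoid (T →* ℂˣ) := ⟨fun μ ν => ∃ h ∈ K, ∀ x y : T, (y : H) = h * x * h⁻¹ → μ y = ν x,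
    fun μ => ⟨1, one_mem _, fun x y e => by rw [show y = x from Subtype.ext (by simpa using e)]⟩,
    fun ⟨h, hh, e⟩ => ⟨h⁻¹, inv_mem hh, fun x y a => (e y x (by rw [a]; group)).symm⟩,
    fun ⟨h, hh, e⟩ ⟨k, hk, e'⟩ => ⟨h * k, mul_mem hh hk, fun x y a =>
      (e ⟨_, hTK k hk x x.2⟩ y (by rw [a]; group)).trans (e' x _ rfl)⟩⟩
  let I := S.image (Quotient.mk r)
  have ex : ∀ q : I, ∃ μ ∈ S, Quotient.mk r μ = q := fun q => Finset.mem_image.1 q.2
  choose g gS gq using ex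
  rw [mul_comm]
  refine (Finset.card_le_mul_card_image (f := Quotient.mk r) S (C.relIndex K) fun q hq => ?_).trans
    (Nat.mul_le_mul_left _ ?_)
  · have ex : ∀ μ : S.filter (Quotient.mk r · = q), ∃ h : K, ∀ x y : T, (y : H) = h * x * (h : H)⁻¹ →
        g ⟨q, hq⟩ y = μ.1 x := fun μ => by
      obtain ⟨h, hh, e⟩ := Quotient.exact ((gq ⟨q, hq⟩).trans (Finset.mem_filter.1 μ.2).2.symm)
      exact ⟨⟨h, hh⟩, e⟩
    choose k hk using ex
    rw [← Fintype.card_coe, ← Nat.card_eq_fintype_card]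
    refine Nat.card_le_card_of_injective (fun μ => (((k μ)⁻¹ : K) : K ⧸ C.subgroupOf K)) fun μ ν e => ?_
    have e := QuotientGroup.eq.1 e
    rw [mem_subgroupOf, inv_inv] at e
    refine Subtype.ext (MonoidHom.ext fun x => ?_)
    rw [← hk μ x ⟨_, hTK _ (k μ).2 x x.2⟩ rfl, ← hk ν x ⟨_, hTK _ (k ν).2 x x.2⟩ rfl]
    exact h2 _ (gS _) _ e _ _ (by simp [mul_assoc])
  · let F : I → ConjClasses H → ℂ := fun q c => ∑ h : H, ext0 (g q) (h * c.out * h⁻¹)
    have hF : ∀ q (x : H), F q (ConjClasses.mk x) = ∑ h : H, ext0 (g q) (h * x * h⁻¹) := fun q x => by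
      obtain ⟨c, hc⟩ := isConj_iff.1 (ConjClasses.mk_eq_mk_iff_isConj.1 (Quotient.out_eq (ConjClasses.mk x)).symm)
      exact Fintype.sum_equiv (Equiv.mulRight c) _ _ fun h => by
        simp only [Equiv.coe_mulRight]; congr 1; rw [← hc]; group
    have P : ∀ q q', ∑ x : T, F q (ConjClasses.mk x) * ((g q' x)⁻¹ : ℂˣ) =
        ∑ h : H, ∑ x : T, ext0 (g q) (h * x * h⁻¹) * ((g q' x)⁻¹ : ℂˣ) := fun q q' => by
      simp only [hF, Finset.sum_mul]; exact Finset.sum_comm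
    have li : LinearIndependent ℂ F := Fintype.linearIndependent_iff.2 fun a ha q => by
      have e : ∑ q', a q' * ∑ x : T, F q' (ConjClasses.mk x) * ((g q x)⁻¹ : ℂˣ) = 0 := by
        simp only [Finset.mul_sum, ← mul_assoc]
        rw [Finset.sum_comm]
        refine Finset.sum_eq_zero fun x _ => ?_
        have := congrFun ha (ConjClasses.mk x)
        simp only [Finset.sum_apply, Pi.smul_apply, smul_eq_mul, Pi.zero_apply] at this
        rw [← Finset.sum_mul, this, zero_mul]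
      rw [Finset.sum_eq_single q (fun q' _ n => ?_) (by simp)] at e
      · refine (mul_eq_zero.1 e).resolve_right fun e => ?_
        rw [P] at e
        choose n hn using fun h => (cnt_inner (g q) (g q) h).1
        have n1 := hn 1
        simp only [hn, ← Nat.cast_sum, Nat.cast_eq_zero, Finset.sum_eq_zero_iff] at e
        rw [e 1 (Finset.mem_univ _)] at n1
        simp [ext0] at n1
      · rw [P, Finset.sum_eq_zero fun h _ => by_contra fun c => n ?_, mul_zero]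
        have k := (cnt_inner (g q') (g q) h).2 c
        refine Subtype.ext ((gq q').symm.trans ((Quotient.sound (s := r) (a := g q') (b := g q)
          ⟨h, hK h fun x hx => ?_, k⟩).trans (gq q)))
        have hx' := hA.conj_mem x hx h
        rw [← h1 _ (gS q') ⟨_, hAT hx'⟩ hx', ← h1 _ (gS q) ⟨x, hAT hx⟩ hx, k ⟨x, hAT hx⟩ ⟨_, hAT hx'⟩ rfl]
    have := li.fintype_card_le_finrank
    rwa [Module.finrank_fintype_fun_eq_card, Fintype.card_coe, ← Nat.card_eq_fintype_card] at this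

end Cfsg.Agent.KLog
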