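import Cfsg.Agent.KLog.B

/-! Class numbers of solvable groups, logarithmic lower bound: proof of `Core`. -/

set_option autoImplicit false

namespace Cfsg.Agent.KLog

open Subgroup Cfsg.Agent.CH.Reg Cfsg.Agent.CH.Kc
open scoped commutatorElement

/-- The statement of the counting lemma. -/
def CntS : Prop := ∀ {H : Type} [Group H] [Finite H] {A A1 T C K : Subgroup H} [A.Normal],
  A ≤ T → (∀ h : H, (∀ x ∈ A, h * x * h⁻¹ ∈ A1 ↔ x ∈ A1) → h ∈ K) →
  (∀ h ∈ K, ∀ x ∈ T, h * x * h⁻¹ ∈ T) → C ≤ K → ∀ S : Finset (T →* ℂˣ),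
  (∀ μ ∈ S, ∀ x : T, (x : H) ∈ A → (μ x = 1 ↔ (x : H) ∈ A1)) →
  (∀ μ ∈ S, ∀ c ∈ C, ∀ x y : T, (y : H) = c * x * c⁻¹ → μ y = μ x) →
  S.card ≤ Nat.card (ConjClasses H) * C.relIndex K

/-- The statement of the module lemma. -/
def LemS : Prop := ∀ {G V : Type} [Group G] [Finite G] [Group.IsSolvable G] [AddCommGroup V]
  [Finite V] [Nontrivial V] [DistribMulAction G V], Irr G V → ∀ {p : ℕ} {a : G},
  Hy V p a → PP V a

theorem char_count {B : Type} [CommGroup B] [Finite B] {p : ℕ} (hp : p.Prime) {b : B} (b1 : b ≠ 1)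
    (hb : b ^ p = 1) : ∃ S : Finset (B →* ℂˣ), (∀ μ ∈ S, μ b ≠ 1) ∧
      Nat.card B * (p - 1) ≤ p * S.card := by
  classical
  haveI := Fact.mk hp
  have hc := CommGroup.card_monoidHom_of_hasEnoughRootsOfUnity B ℂ
  haveI : Finite (B →* ℂˣ) := Nat.finite_of_card_ne_zero (hc ▸ Nat.card_pos.ne')
  haveI := Fintype.ofFinite (B →* ℂˣ)
  let ev : (B →* ℂˣ) →* ℂˣ := MonoidHom.eval b
  obtain ⟨φ, hφ⟩ := CommGroup.exists_apply_ne_one_of_hasEnoughRootsOfUnity B ℂ b1
  refine ⟨Finset.univ.filter fun μ => μ b ≠ 1, fun μ h => (Finset.mem_filter.1 h).2, ?_⟩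
  have h1 : p ≤ ev.ker.index := by
    rw [index_ker]
    haveI : Finite ev.range := Finite.of_surjective _ ev.rangeRestrict_surjective
    refine Nat.le_of_dvd Nat.card_pos ?_
    rw [← orderOf_eq_prime (p := p) (x := φ b) (by rw [← map_pow, hb, map_one]) hφ]
    exact orderOf_dvd_natCard _ ⟨φ, rfl⟩
  have h2 := ev.ker.card_mul_index
  have h3 := Finset.card_filter_add_card_filter_not (s := Finset.univ)
    (fun μ : B →* ℂˣ => μ b ≠ 1)
  have h4 : (Finset.univ.filter fun μ : B →* ℂˣ => ¬ μ b ≠ 1).card = Nat.card ev.ker := by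
    rw [Nat.card_eq_fintype_card, Fintype.card_subtype]
    exact congrArg _ (Finset.filter_congr fun μ _ => not_not)
  rw [h4, Finset.card_univ, ← Nat.card_eq_fintype_card, hc] at h3
  rw [hc] at h2
  have h5 := Nat.mul_le_mul_left (Nat.card ev.ker) h1
  obtain ⟨r, rfl⟩ : ∃ r, p = r + 1 := ⟨p - 1, (Nat.sub_add_cancel hp.pos).symm⟩
  rw [Nat.add_sub_cancel]
  nlinarith

section
variable {H V : Type} [Group H] [AddCommGroup V] [DistribMulAction H V] {p : ℕ}
  {A A1 : Subgroup H}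

theorem line (hp : p.Prime) (hc : ∀ x ∈ A, ∀ y ∈ A, x * y = y * x) (he : ∀ x ∈ A, x ^ p = 1)
    {v0 : V} (h0 : p • v0 ≠ 0) (h1 : ∀ x ∈ A1, x • v0 = v0) (hA : A1 ≤ A)
    (hm : ∀ v : V, v ≠ 0 → (∀ x ∈ A1, x • v = v) → ∀ y ∈ A, y • v = v → y ∈ A1)
    {a : H} (ha : a ∈ A) (a1 : a ∉ A1) {x : H} (hx : x ∈ A) : ∃ t : ℕ, x * a ^ t ∈ A1 := by
  have N0 : ∀ y ∈ A, y ∉ A1 → ∑ t ∈ Finset.range p, y ^ t • v0 = 0 := fun y hy y1 => by
    by_contra h
    refine y1 (hm _ h (fun z hz => ?_) y hy ?_)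
    · rw [Finset.smul_sum]
      refine Finset.sum_congr rfl fun t _ => ?_
      rw [← mul_smul, hc z (hA hz) _ (A.pow_mem hy t), mul_smul, h1 z hz]
    · have h2 := Finset.sum_range_succ' (fun t => y ^ t • v0) p
      rw [Finset.sum_range_succ, he y hy, pow_zero, add_left_inj] at h2
      rw [Finset.smul_sum]
      simp only [← mul_smul, ← pow_succ']
      exact h2.symm
  by_contra hn
  push Not at hn
  apply h0
  have h2 : ∑ t ∈ Finset.range p, ∑ j ∈ Finset.range p, (x * a ^ t) ^ j • v0 = 0 :=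
    Finset.sum_eq_zero fun t _ => N0 _ (A.mul_mem hx (A.pow_mem ha t)) (hn t)
  rw [Finset.sum_comm, Finset.sum_eq_single 0] at h2
  · simpa using h2
  · intro j hj j0
    have h3 : a ^ j ∉ A1 := fun h => by
      haveI := Fact.mk hp
      have h4 : orderOf a = p := orderOf_eq_prime (he a ha) (by rintro rfl; exact a1 A1.one_mem)
      obtain ⟨m, hm⟩ := exists_pow_eq_self_of_coprime (x := a) (n := j) (by
        rw [h4]
        exact (Nat.coprime_of_lt_prime j0 (Finset.mem_range.1 hj) hp).symm)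
      exact a1 (hm ▸ A1.pow_mem h m)
    rw [← smul_zero (x ^ j), ← N0 _ (A.pow_mem ha j) h3, Finset.smul_sum]
    refine Finset.sum_congr rfl fun t _ => ?_
    rw [Commute.mul_pow (hc x hx _ (A.pow_mem ha t)), mul_smul, ← pow_mul, ← pow_mul, mul_comm t]
  · exact fun h => absurd (Finset.mem_range.2 hp.pos) h

end

theorem core_of (cnt : CntS) (lem : LemS) : Core := by
  classical
  intro H V _ _ _ _ _ _ _ p hp h53 A hAn hc he hV hfix
  obtain ⟨v0, hv0, hmax⟩ := Set.exists_max_image {v : V | v ≠ 0}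
    (fun v => Nat.card (A ⊓ MulAction.stabilizer H v : Subgroup H)) (Set.toFinite _)
    (exists_ne 0)
  set A1 := A ⊓ MulAction.stabilizer H v0 with hA1
  have hm : ∀ v : V, v ≠ 0 → (∀ x ∈ A1, x • v = v) → ∀ y ∈ A, y • v = v → y ∈ A1 :=
    fun v hv h y hy e => (eq_of_le_of_card_ge (H := A1) (K := A ⊓ MulAction.stabilizer H v)
      (fun x hx => ⟨hx.1, h x hx⟩) (hmax v hv)).ge ⟨hy, e⟩
  obtain ⟨a, ha, a1⟩ : ∃ a ∈ A, a ∉ A1 := by
    by_contra h
    push Not at h
    exact hv0 (hfix v0 fun x hx => (h x hx).2)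
  have h0 : p • v0 ≠ 0 := fun h => by
    haveI := Fact.mk hp
    exact hV (addOrderOf_eq_prime h hv0 ▸ addOrderOf_dvd_natCard v0)
  have hl := fun x (hx : x ∈ A) =>
    line (A1 := A1) hp hc he h0 (fun x hx => hx.2) inf_le_left hm ha a1 hx
  set K := normalizer (A1 : Set H) with hK
  have hK' : ∀ h : H, (∀ x ∈ A, h * x * h⁻¹ ∈ A1 ↔ x ∈ A1) → h ∈ K := fun h hh x =>
    ⟨fun hx => (hh x hx.1).2 hx, fun hx => (hh x (by simpa [mul_assoc] using hAn.conj_mem' _ hx.1 h)).1 hx⟩
  have hAK : A ≤ K := fun h hh => hK' h fun x hx => by rw [hc h hh x hx, mul_inv_cancel_right]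
  let W0 : AddSubgroup V :=
    { carrier := {v | ∀ x ∈ A1, x • v = v}
      add_mem' := fun {u v} hu hv x hx => by rw [smul_add, hu x hx, hv x hx]
      zero_mem' := fun x _ => smul_zero x
      neg_mem' := fun {u} hu x hx => by rw [smul_neg, hu x hx] }
  have hW0 : Inv K W0 := fun g v hv x hx => by
    have := hv _ ((K.inv_mem g.2 x).1 hx)
    rw [mul_smul, mul_smul, inv_smul_eq_iff, inv_inv] at this
    exact this
  obtain ⟨W, ⟨hW, hWn, hWl⟩, hmin⟩ := (Set.toFinite {W : AddSubgroup V |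
    Inv K W ∧ W ≠ ⊥ ∧ W ≤ W0}).exists_minimal ⟨W0, hW0, fun h => hv0 (by
      have : v0 ∈ W0 := fun x hx => hx.2
      rwa [h] at this), le_rfl⟩
  have hM : MinInv K W := ⟨hW, fun U hU hUW => (em (U = ⊥)).imp id fun h =>
    le_antisymm hUW (hmin ⟨hU, h, hUW.trans hWl⟩ hUW)⟩
  letI := subAct K W hW
  haveI := (AddSubgroup.nontrivial_iff_ne_bot W).2 hWn
  let b : K := ⟨a, hAK ha⟩
  have hker : ∀ x : K, (x : H) ∈ A → (x ∈ aK K W ↔ (x : H) ∈ A1) := fun x hx => by
    rw [mem_aK]
    refine ⟨fun h => ?_, fun h w => Subtype.ext (hWl w.2 x h)⟩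
    obtain ⟨w, hw⟩ := exists_ne (0 : W)
    exact hm w (fun e => hw (Subtype.ext e)) (hWl w.2) x hx (congrArg Subtype.val (h w))
  have hpow : ∀ x : K, (x : H) ∈ A → ∃ t : ℕ, x⁻¹ * b ^ t ∈ aK K W := fun x hx => by
    obtain ⟨t, ht⟩ := hl _ (A.inv_mem hx)
    exact ⟨t, (hker _ ht.1).2 ht⟩
  have hy : Hy W p b := ⟨hp, h53, fun h => a1 ((hker b ha).1 h),
    mem_aK.2 fun w => by rw [show b ^ p = 1 from Subtype.ext (he a ha), one_smul], fun g => by
      obtain ⟨t, ht⟩ := hpow (g * b * g⁻¹) (hAn.conj_mem a ha g)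
      exact ⟨t, fun v => by
        have := mem_aK.1 ht v
        rwa [mul_smul, inv_smul_eq_iff, eq_comm] at this⟩⟩
  let f := MulAction.toPermHom K W
  have count : ∀ T C : Subgroup K, T.Normal → b ∈ T → aK K W ≤ T → T ≤ C →
      (∀ c ∈ C, ∀ x ∈ T, ⁅c, x⁆ ∈ aK K W) →
      Nat.card (T.map f) * (p - 1) ≤ p * (Nat.card (ConjClasses H) * C.index) := by
    intro T C hT hb hk hTC hcm
    have hcm' : ∀ c ∈ C, ∀ x ∈ T, f c * f x = f x * f c := fun c hc x hx => by
      rw [← commutatorElement_eq_one_iff_mul_comm, ← map_commutatorElement]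
      exact hcm c hc x hx
    letI : CommGroup (T.map f) := { (inferInstance : Group (T.map f)) with
      mul_comm := by
        rintro ⟨_, x, hx, rfl⟩ ⟨_, y, hy, rfl⟩
        exact Subtype.ext (hcm' x (hTC hx) y hy) }
    haveI : Finite (T.map f) := Finite.of_surjective _ (f.subgroupMap_surjective T)
    obtain ⟨S, hS, hS'⟩ := char_count (B := T.map f) hp (b := ⟨f b, b, hb, rfl⟩)
      (fun e => hy.ne (congrArg Subtype.val e))
      (Subtype.ext ((map_pow f b p).symm.trans hy.pow))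
    let e := T.equivMapOfInjective K.subtype K.subtype_injective
    let ψ : T.map K.subtype →* T.map f := (f.subgroupMap T).comp e.symm.toMonoidHom
    have hψ : Function.Surjective ψ := (f.subgroupMap_surjective T).comp e.symm.surjective
    have hψ' : ∀ (x : K) (hx : x ∈ T), ψ ⟨K.subtype x, x, hx, rfl⟩ = ⟨f x, x, hx, rfl⟩ := fun x hx => by
      have : e.symm ⟨x, x, hx, rfl⟩ = ⟨x, hx⟩ := e.symm_apply_eq.2 rfl
      exact congrArg (f.subgroupMap T) this
    have h1 := cnt (A := A) (A1 := A1) (T := T.map K.subtype) (C := C.map K.subtype) (K := K)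
      (fun x hx => by
        obtain ⟨t, ht⟩ := hpow ⟨x, hAK hx⟩ hx
        exact ⟨_, (T.inv_mem_iff).1 ((T.mul_mem_cancel_right (T.pow_mem hb t)).1 (hk ht)), rfl⟩)
      hK' (by
        rintro h hh _ ⟨x, hx, rfl⟩
        exact ⟨_, hT.conj_mem x hx ⟨h, hh⟩, rfl⟩) (map_subtype_le _)
      (S.image fun μ => μ.comp ψ) (by
        simp only [Finset.mem_image]
        rintro _ ⟨μ, hμ, rfl⟩ ⟨_, x, hx, rfl⟩ hxA
        rw [MonoidHom.comp_apply, hψ' x hx]
        refine ⟨fun h => ?_, fun h => ?_⟩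
        · by_contra x1
          obtain ⟨t, ht⟩ := line (A1 := A1) hp hc he h0 (fun x hx => hx.2) inf_le_left hm hxA x1
            (A.inv_mem ha)
          have h2 : f (b⁻¹ * x ^ t) = 1 := (hker (b⁻¹ * x ^ t) ht.1).2 ht
          rw [map_mul, map_inv, inv_mul_eq_one, map_pow] at h2
          refine hS μ hμ ?_
          rw [show (⟨f b, b, hb, rfl⟩ : T.map f) = ⟨f x, x, hx, rfl⟩ ^ t from Subtype.ext h2,
            map_pow, h, one_pow]
        · rw [show (⟨f x, x, hx, rfl⟩ : T.map f) = 1 from Subtype.ext ((hker x hxA).2 h), map_one])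
      (by
        simp only [Finset.mem_image]
        rintro _ ⟨μ, -, rfl⟩ _ ⟨c, hc, rfl⟩ ⟨_, x, hx, rfl⟩ ⟨_, y, hy, rfl⟩ e
        change μ (ψ _) = μ (ψ _)
        rw [hψ' x hx, hψ' y hy]
        congr 2
        rw [show y = c * x * c⁻¹ from Subtype.ext e, map_mul, map_mul, map_inv, hcm' c hc x hx,
          mul_inv_cancel_right])
    rw [Finset.card_image_of_injective _ fun μ ν e => (MonoidHom.cancel_right hψ).1 e, relIndex,
      subgroupOf, comap_map_eq_self_of_injective K.subtype_injective] at h1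
    exact hS'.trans (Nat.mul_le_mul_left p h1)
  obtain ⟨T, C, hT, hb, hk, hTC, hCD, hcm, hI⟩ := lem (irr_sub hM) hy
  set D := DD W b
  set k := Nat.card (ConjClasses H)
  refine ⟨D.index, Nat.pos_of_ne_zero index_ne_zero_of_finite, ?_, ?_⟩
  · have h1 := count ((zpowers (f b)).comap f) D ⟨fun x hx g => ?_⟩ (mem_zpowers _)
      (fun x hx => by rw [mem_comap, show f x = 1 from hx]; exact one_mem _)
      (fun x ⟨j, hj⟩ => mem_centralizer_singleton_iff.2 (by
        rw [← hj]; exact (Commute.refl _).zpow_left j))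
      (fun c hc x ⟨j, hj⟩ => by
        change f ⁅c, x⁆ = 1
        rw [map_commutatorElement, commutatorElement_eq_one_iff_commute, ← hj]
        exact Commute.zpow_right (mem_centralizer_singleton_iff.1 hc) j)
    · haveI := Fact.mk hp
      rw [map_comap_eq_self (zpowers_le.2 ⟨b, rfl⟩), Nat.card_zpowers,
        orderOf_eq_prime (by rw [← map_pow]; exact hy.pow) hy.ne] at h1
      exact Nat.le_of_mul_le_mul_left h1 hp.pos
    · obtain ⟨j, hj⟩ := hx
      obtain ⟨t, ht⟩ := hy.nrm g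
      have h2 : f (g * b * g⁻¹) = f b ^ t := by rw [← map_pow]; exact Equiv.ext ht
      rw [mem_comap, map_mul, map_mul, map_inv, ← hj, ← conj_zpow, ← map_inv, ← map_mul,
        ← map_mul, h2]
      exact zpow_mem (npow_mem_zpowers _ t) j
  have h1 := count T C hT hb hk hTC hcm
  set τ := Nat.card (T.map f)
  set n := Nat.card (MulAction.orbitRel.Quotient H V) - 1
  have h2 : Nat.card W ≤ 2 * (aK K W).index * n := by
    haveI := Fintype.ofFinite W
    haveI := Fintype.ofFinite (MulAction.orbitRel.Quotient H V)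
    haveI : Finite f.range := Finite.of_surjective _ f.rangeRestrict_surjective
    haveI := Fintype.ofFinite f.range
    let g : W → MulAction.orbitRel.Quotient H V := fun w => Quotient.mk'' (w : V)
    have h3 := Finset.card_le_mul_card_image (f := g) (Finset.univ.erase (0 : W))
      (aK K W).index (fun c hc => by
        obtain ⟨w, hw, rfl⟩ := Finset.mem_image.1 hc
        rw [show (aK K W).index = Fintype.card f.range by
          rw [← Nat.card_eq_fintype_card]; exact index_ker f]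
        refine (Finset.card_le_card fun u hu => ?_).trans
          (Finset.card_image_le (f := fun σ : f.range => σ.1 w) (s := Finset.univ))
        obtain ⟨u0, hu⟩ := Finset.mem_filter.1 hu
        obtain ⟨h, hh⟩ : (u : V) ∈ MulAction.orbit H (w : V) := Quotient.exact' hu
        have w0 : (w : V) ≠ 0 := fun e => (Finset.mem_erase.1 hw).1 (Subtype.ext e)
        have u0' : (u : V) ≠ 0 := fun e => (Finset.mem_erase.1 u0).1 (Subtype.ext e)
        have hh' : h • (w : V) = u := hh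
        have hhK : h ∈ K := hK' h fun x hx => ⟨fun h4 => hm w w0 (hWl w.2) x hx (by
            have := hWl u.2 _ h4
            rw [← hh', mul_smul, inv_smul_smul, mul_smul] at this
            exact smul_left_cancel h this),
          fun h4 => hm u u0' (hWl u.2) _ (hAn.conj_mem x hx h) (by
            rw [← hh', mul_smul, inv_smul_smul, mul_smul, hWl w.2 x h4])⟩
        exact Finset.mem_image.2 ⟨⟨f ⟨h, hhK⟩, _, rfl⟩, Finset.mem_univ _, Subtype.ext hh'⟩)
    have h4 : ((Finset.univ.erase (0 : W)).image g).card ≤ n := by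
      refine (Finset.card_le_card (t := Finset.univ.erase (g 0)) fun c hc => ?_).trans ?_
      · obtain ⟨w, hw, rfl⟩ := Finset.mem_image.1 hc
        refine Finset.mem_erase.2 ⟨fun e => ?_, Finset.mem_univ _⟩
        obtain ⟨h, hh⟩ : (w : V) ∈ MulAction.orbit H ((0 : W) : V) := Quotient.exact' e
        exact (Finset.mem_erase.1 hw).1 (Subtype.ext (hh.symm.trans (smul_zero h)))
      · rw [Finset.card_erase_of_mem (Finset.mem_univ _), Finset.card_univ,
          ← Nat.card_eq_fintype_card]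
    rw [Finset.card_erase_of_mem (Finset.mem_univ _), Finset.card_univ,
      ← Nat.card_eq_fintype_card] at h3
    have h5 := Finite.one_lt_card (α := W)
    have h6 := Nat.mul_le_mul_left (aK K W).index h4
    rw [mul_assoc]
    omega
  have h3 : (aK K W).index = τ * (T.relIndex D * D.index) := by
    rw [relIndex_mul_index (hTC.trans hCD), ← relIndex_mul_index hk]
    exact congrArg (· * _) (relIndex_ker T f)
  rw [← relIndex_mul_index hCD] at h1
  have hτ : 0 < τ := by
    haveI : Finite (T.map f) := Finite.of_surjective _ (f.subgroupMap_surjective T)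
    exact Nat.card_pos
  have hi : 0 < T.relIndex D * C.relIndex D :=
    Nat.mul_pos (Nat.pos_of_ne_zero index_ne_zero_of_finite)
      (Nat.pos_of_ne_zero index_ne_zero_of_finite)
  rw [h3] at h2
  generalize T.relIndex D = i at *
  generalize C.relIndex D = j at *
  generalize D.index = m at *
  have h4 : τ ≤ 2 * (k * (j * m)) := by
    refine Nat.le_of_mul_le_mul_left ?_ hp.pos
    have : p ≤ 2 * (p - 1) := by omega
    nlinarith
  have h5 : Nat.card W ≤ ((k + n) * m) ^ 2 * (i * j) := by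
    have h6 : 4 * (k * n) ≤ (k + n) ^ 2 := by nlinarith [sq_nonneg ((k : ℤ) - n)]
    calc Nat.card W ≤ 2 * (τ * (i * m)) * n := h2
      _ ≤ 2 * (2 * (k * (j * m)) * (i * m)) * n := by gcongr
      _ = 4 * (k * n) * (m ^ 2 * (i * j)) := by ring
      _ ≤ (k + n) ^ 2 * (m ^ 2 * (i * j)) := by gcongr
      _ = _ := by ring
  have h6 : (i * j) ^ 3 * (2 ^ m) ^ 2 ≤ (i * j) ^ 3 * (((k + n) * m) ^ 3) ^ 2 :=
    calc (i * j) ^ 3 * (2 ^ m) ^ 2 ≤ (i * j) ^ 3 * max (2 ^ m) 54 ^ 2 := by
          gcongr; exact le_max_left _ _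
      _ ≤ _ := hI
      _ ≤ (((k + n) * m) ^ 2 * (i * j)) ^ 3 := by gcongr
      _ = _ := by ring
  exact (Nat.pow_le_pow_iff_left two_ne_zero).1 (Nat.le_of_mul_le_mul_left h6 (pow_pos hi 3))

end Cfsg.Agent.KLog
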