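import Cfsg.Agent.KLog.A

/-! Class numbers of solvable groups, logarithmic lower bound: the imprimitive step. -/

set_option autoImplicit false

namespace Cfsg.Agent.KLog

open Subgroup Cfsg.Agent.CH.Reg Cfsg.Agent.CH.Kc
open scoped commutatorElement

theorem imp_pow (t : ℕ) (h : 7 ≤ t) : t ^ 12 ≤ 54 ^ (t - 1) := by
  induction t, h using Nat.le_induction with
  | base => norm_num
  | succ t ht ih =>
    have h1 : (7 * (t + 1)) ^ 12 ≤ (8 * t) ^ 12 := Nat.pow_le_pow_left (by omega) _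
    rw [mul_pow, mul_pow] at h1
    obtain ⟨s, rfl⟩ : ∃ s, t = s + 1 := ⟨t - 1, by omega⟩
    rw [Nat.add_sub_cancel] at ih ⊢
    rw [pow_succ 54 s]
    generalize (s + 1 + 1) ^ 12 = A at *
    generalize (s + 1) ^ 12 = B at *
    generalize 54 ^ s = C at *
    norm_num at h1
    omega

theorem imp_core {G : Type} [Group G] [Finite G] [Group.IsSolvable G] {H : Subgroup G}
    (hH : IsCoatom H) : H.normalCore.index ^ 3 ≤ 54 ^ (H.index - 1) := by
  have h2 : H.index ≠ 1 := fun h => hH.1 (index_eq_one.1 h)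
  have h3 : H.index ≠ 0 := index_ne_zero_of_finite
  by_cases h7 : 7 ≤ H.index
  · obtain ⟨t, ht⟩ := base_four (fi3 _) le_rfl hH
    have h1 : H.normalCore.index ≤ H.index ^ 4 := by
      have e1 : (⨅ i, H.comap (MulAut.conj (t i)⁻¹).toMonoidHom) ≤ H.normalCore := fun g hg =>
        ht g fun i => by simpa using mem_iInf.1 hg i
      refine (Nat.le_of_dvd (Nat.pos_of_ne_zero index_ne_zero_of_finite) (index_dvd_of_le e1)).trans
        ((index_iInf_le _).trans (le_of_eq ?_))
      rw [Finset.prod_congr rfl fun i _ =>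
        index_comap_of_surjective H (MulAut.conj (t i)⁻¹).surjective]
      simp
    refine (Nat.pow_le_pow_left h1 3).trans ?_
    rw [← pow_mul]
    exact imp_pow _ h7
  · have h1 : H.normalCore.index ≤ H.index.factorial := by
      rw [normalCore_eq_ker, index_ker, index, ← Nat.card_perm]
      exact card_le_card_group _
    refine (Nat.pow_le_pow_left h1 3).trans ?_
    generalize H.index = t at *
    have h8 : t < 7 := by omega
    interval_cases t <;> simp_all [Nat.factorial]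

/-- The elements lying in `X` on every block. -/
noncomputable def Cr {G : Type} [Group G] {H : Subgroup G} (X : Subgroup H) : Subgroup G :=
  ⨅ ω : G ⧸ H, (X.map H.subtype).comap (MulAut.conj ω.out⁻¹).toMonoidHom

theorem mem_Cr {G : Type} [Group G] {H : Subgroup G} {X : Subgroup H} {g : G} :
    g ∈ Cr X ↔ ∀ ω : G ⧸ H, ω.out⁻¹ * g * ω.out ∈ X.map H.subtype := by
  simp [Cr, mem_iInf]

theorem Cr_idx {G : Type} [Group G] [Finite G] {H D : Subgroup G} [D.Normal] (X : Subgroup H) :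
    (Cr X).relIndex D ≤ X.relIndex (D.subgroupOf H) ^ H.index * H.normalCore.relIndex D := by
  classical
  haveI : Fintype (G ⧸ H) := Fintype.ofFinite _
  have h0 : ∀ A B : Subgroup G, A.relIndex B ≠ 0 := fun A B => index_ne_zero_of_finite
  refine (relIndex_le_of_le_left (inf_le_left : Cr X ⊓ H.normalCore ≤ _) (h0 _ _)).trans ?_
  rw [← relIndex_inf_mul_relIndex]
  refine Nat.mul_le_mul_right _ ((relIndex_iInf_le _).trans ?_)
  rw [index, Nat.card_eq_fintype_card, ← Finset.card_univ]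
  refine Finset.prod_le_pow_card _ _ _ fun ω _ => ?_
  rw [relIndex_comap, ← relIndex_map_map_of_injective X _ H.subtype_injective]
  refine relIndex_le_of_le_right ?_ (h0 _ _)
  rintro _ ⟨g, hg, rfl⟩
  exact ⟨⟨_, H.normalCore_le ((inferInstance : H.normalCore.Normal).conj_mem g hg.1 ω.out⁻¹)⟩,
    (inferInstance : D.Normal).conj_mem g hg.2 ω.out⁻¹, rfl⟩

theorem imp {G V : Type} [Group G] [Finite G] [Group.IsSolvable G] [AddCommGroup V] [Finite V]
    [DistribMulAction G V] [FaithfulSMul G V] (hI : Irr G V) {H : Subgroup G} (hH : IsCoatom H)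
    (e : V →+ V) (he0 : e ≠ 0) (hee : ∀ x, e (e x) = e x) (heH : ∀ h ∈ H, ∀ x, e (h • x) = h • e x)
    (heG : ∀ g, g ∉ H → ∀ x, e (g • e x) = 0) (hW : Inv H e.range) {p : ℕ} {a : G} (h : Hy V p a) :
    ∃ ha : a ∈ H, letI := subAct H e.range hW
      Hy e.range p (⟨a, ha⟩ : H) ∧ (PP e.range (⟨a, ha⟩ : H) → PP V a) := by
  classical
  letI := subAct H e.range hW
  obtain ⟨x0, hx0⟩ : ∃ x, e x ≠ 0 := by
    by_contra h
    push Not at h
    exact he0 (AddMonoidHom.ext h)
  have a1 : a ≠ 1 := fun e => h.ne (e ▸ one_mem _)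
  have ap : a ^ p = 1 := by simpa [aK_eq] using h.pow
  have nr : ∀ g : G, ∃ k : ℕ, g * a * g⁻¹ = a ^ k := fun g =>
    (h.nrm g).imp fun k hk => FaithfulSMul.eq_of_smul_eq_smul (α := V) hk
  have nr' : ∀ g : G, ∃ k : ℕ, g⁻¹ * a * g = a ^ k := fun g => by simpa using nr g⁻¹
  have fx : ∀ b ∈ zpowers a, b ≠ 1 → ∀ v : V, b • v = v → v = 0 := by
    rintro _ ⟨j, rfl⟩ hb v hv
    rcases hI (Fix V (a ^ j)) (fun g v hv => by
      obtain ⟨k, hk⟩ := nr' g
      have h1 : g⁻¹ * a ^ j * g = (a ^ j) ^ k := by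
        rw [← zpow_natCast, ← zpow_mul, mul_comm j, zpow_mul, zpow_natCast, ← hk]
        simpa using (conj_zpow (i := j) (a := g⁻¹) (b := a)).symm
      have h2 : (a ^ j) ^ k • v = v := (MulAction.stabilizer G v).pow_mem hv k
      rw [mem_Fix, ← mul_smul, show a ^ j * g = g * (g⁻¹ * a ^ j * g) by group, mul_smul, h1, h2])
      with h1 | h1
    · exact (h1 ▸ hv : v ∈ (⊥ : AddSubgroup V))
    · exact absurd (FaithfulSMul.eq_of_smul_eq_smul (α := V) fun z => by
        rw [one_smul]; exact mem_Fix.1 (h1 ▸ AddSubgroup.mem_top z)) hb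
  haveI := Fact.mk h.pp
  have oa : orderOf a = p := orderOf_eq_prime ap a1
  have ha : a ∈ H := by
    by_contra ha
    have h1 : a • ∑ i ∈ Finset.range p, a ^ i • e x0 = ∑ i ∈ Finset.range p, a ^ i • e x0 := by
      have h2 := Finset.sum_range_succ' (fun i => a ^ i • e x0) p
      rw [Finset.sum_range_succ, ap, pow_zero, add_right_cancel_iff] at h2
      rw [Finset.smul_sum, h2]
      conv_rhs => rw [← h2]
      rw [h2]
      exact Finset.sum_congr rfl fun i _ => by rw [← mul_smul, pow_succ']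
    have h3 := congrArg e (fx a (mem_zpowers a) a1 _ h1)
    rw [map_sum, map_zero, Finset.sum_eq_single 0, pow_zero, one_smul, hee] at h3
    · exact hx0 h3
    · intro i hi hi0
      refine heG _ (fun hm => ha ?_) _
      obtain ⟨m, hm'⟩ := exists_pow_eq_self_of_coprime (x := a) (n := i) (oa ▸
        (Nat.coprime_of_lt_prime hi0 (Finset.mem_range.1 hi) h.pp).symm)
      exact hm' ▸ H.pow_mem hm m
    · exact fun hn => absurd (Finset.mem_range.2 h.pp.pos) hn
  refine ⟨ha, ⟨h.pp, h.big, fun hk => hx0 (fx a (mem_zpowers a) a1 _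
    (congrArg Subtype.val (mem_aK.1 hk ⟨e x0, x0, rfl⟩))), ?_, fun g => ?_⟩, ?_⟩
  · rw [show (⟨a, ha⟩ : H) ^ p = 1 from Subtype.ext ap]
    exact one_mem _
  · obtain ⟨k, hk⟩ := h.nrm g
    exact ⟨k, fun v => Subtype.ext (hk v)⟩
  rintro ⟨T1, C1, nT, aT, kT, TC, CD, cm, le⟩
  haveI nD : (centralizer {a} : Subgroup G).Normal := ⟨fun d hd y => by
    obtain ⟨k, hk⟩ := nr' y
    rw [mem_centralizer_singleton_iff] at hd ⊢
    have h1 : d * (y⁻¹ * a * y) = (y⁻¹ * a * y) * d := hk ▸ (Commute.pow_right hd k).eq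
    calc _ = y * (d * (y⁻¹ * a * y)) * y⁻¹ := by group
      _ = _ := by rw [h1]; group⟩
  have eD : DD e.range (⟨a, ha⟩ : H) = (centralizer {a} : Subgroup G).subgroupOf H := by
    ext g
    rw [mem_DD, mem_subgroupOf, mem_centralizer_singleton_iff]
    refine ⟨fun hg => ?_, fun hg v => Subtype.ext ?_⟩
    · obtain ⟨k, hk⟩ := nr g
      have h1 : (g : G) • a • e x0 = a • (g : G) • e x0 := congrArg Subtype.val (hg ⟨e x0, x0, rfl⟩)
      have h2 : a⁻¹ * (g * a * (g : G)⁻¹) = 1 := by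
        by_contra h2
        have h3 := fx _ (hk ▸ mul_mem (inv_mem (mem_zpowers a)) (npow_mem_zpowers a k)) h2
          ((g : G) • e x0) (by
            rw [mul_smul, mul_smul, mul_smul, inv_smul_smul, h1, inv_smul_smul])
        exact hx0 ((smul_eq_zero_iff_eq _).1 h3)
      calc (g : G) * a = a * (a⁻¹ * (g * a * (g : G)⁻¹)) * g := by group
        _ = _ := by rw [h2, mul_one]
    · change (g : G) • a • (v : V) = a • (g : G) • (v : V)
      rw [← mul_smul, hg, mul_smul]
  have hmem : ∀ y : G, y⁻¹ * (y : G ⧸ H).out ∈ H := fun y =>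
    QuotientGroup.eq.1 (QuotientGroup.out_eq' (y : G ⧸ H)).symm
  have triv : ∀ g : G, (∀ ω : G ⧸ H, ∀ z ∈ e.range, (ω.out⁻¹ * g * ω.out) • z = z) → g ∈ aK G V := by
    intro g hg
    let S : AddSubgroup V :=
      { carrier := {z | ∀ x : G, g • x • z = x • z}
        add_mem' := fun {a b} ha hb x => by rw [smul_add, smul_add, ha x, hb x]
        zero_mem' := fun x => by rw [smul_zero, smul_zero]
        neg_mem' := fun {a} ha x => by rw [smul_neg, smul_neg, ha x] }
    refine mem_aK.2 fun z => ?_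
    rcases hI S (fun y z hz x => by rw [← mul_smul x y]; exact hz _) with h | h
    · have : e x0 ∈ S := fun x => by
        have h5 := hg x _ (hW ⟨_, H.inv_mem (hmem x)⟩ (e x0) ⟨x0, rfl⟩)
        have h6 := congrArg (fun z => (x : G ⧸ H).out • z) h5
        simp only [Subgroup.smul_def, ← mul_smul] at h6
        rw [← mul_smul]
        convert h6 using 2 <;> group
      rw [h] at this
      exact absurd this hx0
    · have : z ∈ S := h ▸ AddSubgroup.mem_top z
      simpa using this 1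
  rw [eD] at CD le
  refine ⟨Cr T1, Cr C1, ⟨fun g hg y => mem_Cr.2 fun ω => ?_⟩, mem_Cr.2 fun ω => ?_,
    aK_eq (G := G) (V := V) ▸ bot_le, fun g hg => mem_Cr.2 fun ω => map_mono TC (mem_Cr.1 hg ω),
    fun g hg => ?_, fun c hc x hx => triv _ fun ω z hz => ?_, ?_⟩
  · obtain ⟨u, hu, eu⟩ := mem_Cr.1 hg ((y⁻¹ * ω.out : G) : G ⧸ H)
    refine ⟨_, nT.conj_mem u hu ⟨_, hmem (y⁻¹ * ω.out)⟩, ?_⟩
    change _ * H.subtype u * _⁻¹ = _
    rw [eu]
    group
  · obtain ⟨k, hk⟩ := nr' ω.out
    exact ⟨_, T1.pow_mem aT k, hk.symm⟩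
  · rw [DD_eq]
    obtain ⟨u, hu, eu⟩ := mem_Cr.1 hg ((1 : G) : G ⧸ H)
    have h1 := nD.conj_mem _ (show H.subtype u ∈ _ from CD hu) ((1 : G) : G ⧸ H).out
    rw [eu] at h1
    simpa [mul_assoc] using h1
  · obtain ⟨u, hu, eu⟩ := mem_Cr.1 hc ω
    obtain ⟨w, hw, ew⟩ := mem_Cr.1 hx ω
    have h1 : (H.subtype ⁅u, w⁆) • z = z := congrArg Subtype.val (mem_aK.1 (cm u hu w hw) ⟨z, hz⟩)
    rw [map_commutatorElement, eu, ew] at h1
    rw [← h1]
    conv_lhs => rw [h1]
    congr 1
    simp only [commutatorElement_def]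
    group
  rw [DD_eq, card_block hI e he0 hee heH heG, ← pow_mul, mul_comm H.index, pow_mul]
  refine le_trans ?_ (Nat.pow_le_pow_left le H.index)
  have i1 := Cr_idx (D := centralizer {a}) T1
  have i2 := Cr_idx (D := centralizer {a}) C1
  have h3 : H.index ≠ 0 := index_ne_zero_of_finite
  refine (Nat.mul_le_mul_right _ (Nat.pow_le_pow_left (Nat.mul_le_mul i1 i2) 3)).trans ?_
  generalize T1.relIndex _ = r
  generalize C1.relIndex _ = c
  rw [mul_pow _ _ H.index, show (r ^ H.index * H.normalCore.relIndex (centralizer {a}) *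
      (c ^ H.index * H.normalCore.relIndex (centralizer {a}))) ^ 3 =
      ((r * c) ^ 3) ^ H.index * (H.normalCore.relIndex (centralizer {a}) ^ 3) ^ 2 by ring, mul_assoc,
    ← mul_pow, ← pow_mul _ 2, mul_comm 2, pow_mul]
  refine Nat.mul_le_mul_left _ (Nat.pow_le_pow_left ?_ 2)
  by_cases hD : (centralizer {a} : Subgroup G) ≤ H
  · rw [relIndex_eq_one.2 (normal_le_normalCore.2 hD), one_pow, one_mul, ← relIndex_mul_index hD,
      pow_mul]
    exact max_le (Nat.pow_le_pow_left (le_max_left _ _) _)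
      ((le_max_right _ _).trans (Nat.le_self_pow h3 _))
  · have h4 : H ⊔ centralizer {a} = ⊤ := hH.2 _ (left_lt_sup.2 hD)
    have h5 : (centralizer {a} : Subgroup G).index = ((centralizer {a} : Subgroup G).subgroupOf H).index := by
      rw [← relIndex_top_right, ← h4, relIndex_sup_right]; rfl
    have h6 : H.normalCore.relIndex (centralizer {a}) ≤ H.normalCore.index := by
      rw [← relIndex_top_right]
      exact relIndex_le_of_le_right le_top index_ne_zero_of_finite
    rw [h5]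
    obtain ⟨s, hs⟩ : ∃ s, H.index = s + 1 := ⟨H.index - 1, by omega⟩
    have h7 := imp_core hH
    rw [hs, Nat.add_sub_cancel] at h7
    rw [hs, pow_succ _ s]
    exact Nat.mul_le_mul_right _ ((Nat.pow_le_pow_left h6 3).trans
      (h7.trans (Nat.pow_le_pow_left (le_max_right _ _) _)))

end Cfsg.Agent.KLog
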