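import Cfsg.Agent.KLog.Prim
import Cfsg.Agent.KLog.Imp

/-! Class numbers of solvable groups, logarithmic lower bound: the induction `lemA` over irreducible modules. -/

set_option autoImplicit false

namespace Cfsg.Agent.KLog

open Subgroup Cfsg.Agent.CH.Reg Cfsg.Agent.CH.Kc
open scoped IsMulCommutative commutatorElement

theorem lemA_aux (n : ℕ) : ∀ (G V : Type) [Group G] [Finite G] [Group.IsSolvable G] [AddCommGroup V] [Finite V]
    [Nontrivial V] [DistribMulAction G V], Nat.card G < n → Irr G V → ∀ (p : ℕ) (a : G), Hy V p a → PP V a := by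
  induction n with
  | zero => intro G V _ _ _ _ _ _ _ hc; omega
  | succ n ih =>
  have main : ∀ (G V : Type) [Group G] [Finite G] [Group.IsSolvable G] [AddCommGroup V] [Finite V]
      [Nontrivial V] [DistribMulAction G V] [FaithfulSMul G V], Nat.card G < n + 1 → Irr G V →
      ∀ (p : ℕ) (a : G), Hy V p a → PP V a := by
    intro G V _ _ _ _ _ _ _ _ hc hI p a h
    obtain ⟨U, F, hF, hmax, hB, hS⟩ := exists_St3 (G := G)
    have := hS.un
    have := hS.fn
    have : IsMulCommutative U := ⟨⟨fun a b => Subtype.ext (hS.cm (hS.le b.2) a.2).eq⟩⟩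
    by_cases hblock : ∃ κ ∈ KR V U, κ ≠ 0 ∧ ¬ Function.Injective κ
    · obtain ⟨κ, h1, h2, h3⟩ := hblock
      obtain ⟨H, e, hH, he0, hee, heH, heG⟩ := exists_block hI h1 h2 h3
      have hlt : Nat.card H < Nat.card G := by
        by_contra h
        exact hH.1 (Subgroup.eq_top_of_le_card H (not_lt.1 h))
      have hW := block_min hI e hee heH heG
      letI := subAct H e.range hW.1
      have : Nontrivial e.range := (AddSubgroup.nontrivial_iff_ne_bot _).2
        fun h => he0 (AddMonoidHom.range_eq_bot_iff.1 h)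
      obtain ⟨ha, h4, h5⟩ := imp hI hH e he0 hee heH heG hW.1 h
      exact h5 (ih H e.range (by omega) (irr_sub hW) p _ h4)
    obtain ⟨K, _, _, _, ι, hι⟩ := exists_Sc (V := V) (N := U) fun κ h3 h4 =>
      by_contra fun h5 => hblock ⟨κ, h3, h4, h5⟩
    exact prim hS hι hmax hB h
  intro G V _ _ _ _ _ _ _ hc hI p a h
  letI := rangeAct G V
  let f := MulAction.toPermHom G V
  have fs := f.rangeRestrict_surjective
  have : Finite f.range := Finite.of_surjective _ fs
  have := Group.isSolvable_of_surjective fs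
  have hd : Nat.card f.range ∣ Nat.card G := card_range_dvd f
  have sm : ∀ (g : G) (v : V), f.rangeRestrict g • v = g • v := fun _ _ => rfl
  have eK : (aK f.range V).comap f.rangeRestrict = aK G V := by
    ext g; rw [mem_comap, mem_aK, mem_aK]; rfl
  have eD : (DD V (f.rangeRestrict a)).comap f.rangeRestrict = DD V a := by
    ext g; rw [mem_comap, mem_DD, mem_DD]; rfl
  obtain ⟨T, C, h1, h2, h3, h4, h5, h6, h7⟩ := main f.range V ((Nat.le_of_dvd Nat.card_pos hd).trans_lt hc)
    (fun U hU => hI U fun a x hx => hU ⟨f a, a, rfl⟩ x hx) p (f.rangeRestrict a)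
    ⟨h.pp, h.big, fun e => h.ne (eK ▸ e), by
      rw [← map_pow]; exact (eK ▸ h.pow : a ^ p ∈ (aK f.range V).comap f.rangeRestrict), fun g => by
      obtain ⟨g, rfl⟩ := fs g
      obtain ⟨k, hk⟩ := h.nrm g
      exact ⟨k, fun v => by rw [← map_inv, ← map_mul, ← map_mul, ← map_pow, sm, sm, hk]⟩⟩
  refine ⟨T.comap f.rangeRestrict, C.comap f.rangeRestrict, h1.comap _, h2, eK ▸ comap_mono h3, comap_mono h4,
    eD ▸ comap_mono h5, fun c hc x hx => ?_, ?_⟩
  · rw [← eK, mem_comap, map_commutatorElement]; exact h6 _ hc _ hx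
  · rw [← eD, relIndex_comap, relIndex_comap, map_comap_eq_self_of_surjective fs, index_comap_of_surjective _ fs]
    exact h7

theorem lemA {G V : Type} [Group G] [Finite G] [Group.IsSolvable G] [AddCommGroup V] [Finite V] [Nontrivial V]
    [DistribMulAction G V] (hI : Irr G V) {p : ℕ} {a : G} (h : Hy V p a) : PP V a :=
  lemA_aux _ G V (Nat.lt_succ_self _) hI p a h

end Cfsg.Agent.KLog
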