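import Cfsg.Agent.KLog.A

/-! Class numbers of solvable groups, logarithmic lower bound: the primitive case `prim` (helper20). -/

set_option autoImplicit false
set_option linter.style.haveILetI false

namespace Cfsg.Agent.KLog

open Subgroup Cfsg.Agent.CH.Reg Cfsg.Agent.CH.Kc
open scoped IsMulCommutative commutatorElement

theorem numP1 (t : ℕ) : (t + 1) ^ 3 ≤ 54 ^ t := by
  induction t with
  | zero => norm_num
  | succ t ih =>
    have h : (t + 1 + 1) ^ 3 ≤ (2 * (t + 1)) ^ 3 := Nat.pow_le_pow_left (by omega) _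
    rw [mul_pow] at h
    rw [pow_succ 54]
    omega

theorem numP2 (t : ℕ) : (t + 3) ^ 24 ≤ 54 ^ (3 * t + 7) := by
  induction t with
  | zero => norm_num
  | succ t ih =>
    have h : (3 * (t + 1 + 3)) ^ 24 ≤ (4 * (t + 3)) ^ 24 := Nat.pow_le_pow_left (by omega) _
    rw [mul_pow, mul_pow] at h
    rw [show 3 * (t + 1) + 7 = 3 * t + 7 + 3 by ring, pow_add 54]
    omega

theorem prim {G V K : Type} [Group G] [Finite G] [Group.IsSolvable G] [AddCommGroup V] [Finite V]
    [DistribMulAction G V] [FaithfulSMul G V] [Field K] [Finite K] [Module K V] [Nontrivial V] {U F : Subgroup G}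
    [U.Normal] [F.Normal] {ι : G → K} (hS : St U F) (hc : Sc V U ι)
    (hmax : ∀ B : Subgroup G, B.Normal → B ≤ centralizer (B : Set G) → B ≤ centralizer (U : Set G) → B ≤ U)
    (hB : ∀ a ∈ centralizer (U : Set G), (∀ x ∈ F, ⁅a, x⁆ ∈ U) → a ∈ F) {p : ℕ} {a : G} (h : Hy V p a) :
    PP V a := by
  classical
  have hK := aK_eq (G := G) (V := V)
  have a1 : a ≠ 1 := fun e => h.ne (e ▸ one_mem _)
  have ap : a ^ p = 1 := by simpa [hK] using h.pow
  haveI := Fact.mk h.pp
  have oa : orderOf a = p := orderOf_eq_prime ap a1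
  have hn : ∀ g : G, g * a * g⁻¹ ∈ zpowers a := fun g => by
    obtain ⟨k, hk⟩ := h.nrm g
    rw [FaithfulSMul.eq_of_smul_eq_smul (α := V) hk]
    exact pow_mem (mem_zpowers a) k
  have hZ : (zpowers a).Normal := ⟨by
    rintro _ ⟨k, rfl⟩ g
    rw [← conj_zpow]
    exact zpow_mem (hn g) k⟩
  have aU : a ∈ U := by
    haveI : Fact (Nat.card (zpowers a)).Prime := ⟨by rw [Nat.card_zpowers, oa]; exact h.pp⟩
    rcases (U.subgroupOf (zpowers a)).eq_bot_or_eq_top_of_prime_card with e | e
    · refine hmax _ hZ (le_centralizer _) (zpowers_le.2 fun u hu => ?_) (mem_zpowers a)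
      have h1 : u * a * u⁻¹ * a⁻¹ ∈ zpowers a := mul_mem (hn u) (inv_mem (mem_zpowers a))
      have h2 : (⟨_, h1⟩ : zpowers a) ∈ U.subgroupOf (zpowers a) := by
        rw [mem_subgroupOf]
        change u * a * u⁻¹ * a⁻¹ ∈ U
        rw [mul_assoc, mul_assoc, ← mul_assoc a]
        exact mul_mem hu (Normal.conj_mem ‹_› _ (inv_mem hu) a)
      rw [e, mem_bot] at h2
      exact commutatorElement_eq_one_iff_mul_comm.1 (congrArg Subtype.val h2)
    · exact subgroupOf_eq_top.1 e (mem_zpowers a)
  have UA : U ≤ centralizer (U : Set G) := hS.le.trans hS.cent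
  have AD : centralizer (U : Set G) ≤ centralizer {a} := centralizer_le (Set.singleton_subset_iff.2 aU)
  refine ⟨U, centralizer (U : Set G), ‹_›, aU, hK ▸ bot_le, UA, DD_eq (V := V) a ▸ AD, fun c hc' x hx => ?_, ?_⟩
  · rw [commutatorElement_eq_one_iff_mul_comm.2 (hc' x hx).symm]
    exact one_mem _
  rw [DD_eq, ← relIndex_mul_relIndex U _ _ UA AD]
  haveI := Fintype.ofFinite K
  obtain ⟨r, _, ⟨f, hf⟩, hr, hq⟩ := FiniteField.card' K
  rw [← Nat.card_eq_fintype_card, PNat.mk_coe] at hq
  haveI : Module.Finite K V := Module.Finite.of_finite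
  have hV := Module.natCard_eq_pow_finrank (K := K) (V := V)
  have hd : 0 < Module.finrank K V := Module.finrank_pos
  have hs := index_le hS hc hr hq
  have hu := card_dvd hc
  have hq1 : 1 < Nat.card K := Finite.one_lt_card
  have pU : p ∣ Nat.card U := oa ▸ orderOf_dvd_natCard U aU
  have q54 : 54 ≤ Nat.card K := by
    have := Nat.le_of_dvd (by omega) (pU.trans hu)
    have := h.big
    omega
  have hs' : 2 ^ (centralizer (U : Set G)).index ≤ Nat.card K :=
    hq ▸ (Nat.pow_le_pow_right two_pos hs).trans (Nat.pow_le_pow_left hr.two_le _)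
  rw [← relIndex_mul_index AD, mul_comm, pow_mul] at hs'
  have h54 : 54 ^ (centralizer (U : Set G)).relIndex (centralizer {a}) ≤ Nat.card K := by
    choose σ hσ using exists_sigma hc
    let E : Subfield K := ⨅ g : centralizer ({a} : Set G), (σ g).eqLocusField (RingHom.id K)
    have mE : ∀ x, x ∈ E ↔ ∀ g : centralizer ({a} : Set G), σ g x = x := fun x => Subfield.mem_iInf
    let x : E := ⟨ι a, (mE _).2 fun g => by
      rw [sigma_iota hS hc (hσ _) aU, mem_centralizer_singleton_iff.1 g.2, mul_inv_cancel_right]⟩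
    haveI := Fintype.ofFinite E
    have ox : orderOf x = p := orderOf_eq_prime (Subtype.ext (by
      change ι a ^ p = 1
      rw [← hc.pow aU, ap, hc.one])) fun e => a1 (hc.inj aU (one_mem _) ((congrArg Subtype.val e).trans hc.one.symm))
    have h1 := orderOf_dvd_of_pow_eq_one (FiniteField.pow_card_sub_one_eq_one x fun e =>
      hc.ne_zero aU (congrArg Subtype.val e))
    have h2 : 1 < Nat.card E := Finite.one_lt_card
    rw [ox, ← Nat.card_eq_fintype_card] at h1
    have h3 : 54 ≤ Nat.card E := by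
      have := Nat.le_of_dvd (by omega) h1
      have := h.big
      omega
    haveI : Module.Finite E K := Module.Finite.of_finite
    rw [Module.natCard_eq_pow_finrank (K := E) (V := K)]
    refine (Nat.pow_le_pow_left h3 _).trans (Nat.pow_le_pow_right (by omega) ?_)
    refine le_trans ?_ (card_algHom_le_finrank E K K)
    haveI : Finite (K →ₐ[E] K) := DFunLike.finite _
    refine Nat.card_le_card_of_injective (fun ω : centralizer ({a} : Set G) ⧸
      (centralizer (U : Set G)).subgroupOf (centralizer {a}) =>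
      ({ σ ω.out with commutes' := fun r => (mE r).1 r.2 ω.out } : K →ₐ[E] K)) fun b c e => ?_
    rw [← QuotientGroup.out_eq' b, ← QuotientGroup.out_eq' c, QuotientGroup.eq, mem_subgroupOf]
    intro u hu
    have h2 : σ b.out (ι u) = σ c.out (ι u) := DFunLike.congr_fun e (ι u)
    rw [sigma_iota hS hc (hσ _) hu, sigma_iota hS hc (hσ _) hu] at h2
    have h3 := hc.inj (hS.un.conj_mem u hu _) (hS.un.conj_mem u hu _) h2
    change u * ((b.out : G)⁻¹ * c.out) = (b.out : G)⁻¹ * c.out * u
    calc u * ((b.out : G)⁻¹ * c.out) = (b.out : G)⁻¹ * (b.out * u * (b.out : G)⁻¹) * c.out := by group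
      _ = _ := by rw [h3]; group
  have hn3 : U.relIndex (centralizer (U : Set G)) ^ 3 * Nat.card K ^ 2 ≤ Nat.card V ^ 3 := by
    rw [hV, ← pow_mul]
    by_cases hFU : F ≤ U
    · rw [relIndex_eq_one.2 ((centralizer_le hFU).trans hS.self), one_pow, one_mul]
      exact Nat.pow_le_pow_right (by omega) (by omega)
    obtain ⟨e, he, he2, hed, hre, -, N, _, _, _, hN, -, hCF, hcr⟩ := prim0 hS hc hmax hB hFU
    letI := conjAct N
    let π := QuotientGroup.mk' U
    have hb : F.relIndex (centralizer (U : Set G)) ≤ e ^ 6 := by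
      obtain ⟨x, hx⟩ := gen3 (fi3 _) (Nat.lt_succ_self _) inferInstance hcr
      refine (Nat.card_le_card_of_injective (fun (ω : centralizer (U : Set G) ⧸
        F.subgroupOf (centralizer (U : Set G))) (i : Fin 3) => π ω.out • x i) fun a b h => ?_).trans ?_
      · rw [← QuotientGroup.out_eq' a, ← QuotientGroup.out_eq' b, QuotientGroup.eq, mem_subgroupOf]
        refine hCF ⟨(mem_aK_conj N).1 (mem_aK.2 (hx _ fun i => ?_)), (a.out⁻¹ * b.out).2⟩
        change π ((a.out : G)⁻¹ * b.out) • x i = x i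
        rw [map_mul, map_inv, mul_smul, inv_smul_eq_iff]
        exact (congrFun h i).symm
      · rw [Nat.card_fun, Nat.card_eq_fintype_card (α := Fin 3), Fintype.card_fin]
        change Nat.card N ^ 3 ≤ _
        rw [hN, ← pow_mul]
    rw [← relIndex_mul_relIndex U F _ hS.le hS.cent, he]
    have h1 : e ^ 24 * Nat.card K ^ 2 ≤ Nat.card K ^ (e * 3) := by
      rcases he2.eq_or_lt with rfl | h3
      · have h4 : 2 * p ∣ Nat.card U := Nat.Coprime.mul_dvd_of_dvd_of_dvd
          ((Nat.coprime_primes Nat.prime_two h.pp).2 (by have := h.big; omega)) (hre 2 Nat.prime_two dvd_rfl) pU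
        have h5 : 64 ≤ Nat.card K := by
          have := Nat.le_of_dvd (by omega) (h4.trans hu)
          have := h.big
          omega
        calc 2 ^ 24 * Nat.card K ^ 2 = 64 ^ 4 * Nat.card K ^ 2 := by norm_num
          _ ≤ Nat.card K ^ 4 * Nat.card K ^ 2 := Nat.mul_le_mul_right _ (Nat.pow_le_pow_left h5 _)
          _ = _ := by rw [← pow_add]
      · obtain ⟨t, rfl⟩ := Nat.exists_eq_add_of_le' (show 3 ≤ e from h3)
        calc (t + 3) ^ 24 * Nat.card K ^ 2 ≤ Nat.card K ^ (3 * t + 7) * Nat.card K ^ 2 :=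
              Nat.mul_le_mul_right _ ((numP2 t).trans (Nat.pow_le_pow_left q54 _))
          _ = _ := by rw [← pow_add]; congr 1; ring
    refine le_trans (Nat.mul_le_mul_right _ ?_) (h1.trans (Nat.pow_le_pow_right (by omega) (by omega)))
    calc _ ≤ (e ^ 2 * e ^ 6) ^ 3 := Nat.pow_le_pow_left (Nat.mul_le_mul_left _ hb) _
      _ = _ := by ring
  have s0 : (centralizer (U : Set G)).relIndex (centralizer {a}) ≠ 0 := index_ne_zero_of_finite
  generalize (centralizer (U : Set G)).relIndex (centralizer {a}) = s at *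
  generalize U.relIndex (centralizer (U : Set G)) = n at *
  generalize (centralizer ({a} : Set G)).index = m at *
  obtain ⟨t, rfl⟩ := Nat.exists_eq_succ_of_ne_zero s0
  have hy : max (2 ^ m) 54 ^ (t + 1) ≤ Nat.card K := by
    rcases le_total (2 ^ m) 54 with e | e
    · rwa [max_eq_right e]
    · rwa [max_eq_left e]
  have h1 : (t + 1) ^ 3 * max (2 ^ m) 54 ≤ Nat.card K := le_trans (by
    rw [pow_succ (max _ _)]
    exact Nat.mul_le_mul_right _ ((numP1 t).trans (Nat.pow_le_pow_left (le_max_right _ _) _))) hy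
  refine le_trans ?_ hn3
  calc _ = n ^ 3 * ((t + 1) ^ 3 * max (2 ^ m) 54) ^ 2 := by simp only [Nat.succ_eq_add_one]; ring
    _ ≤ _ := Nat.mul_le_mul_left _ (Nat.pow_le_pow_left h1 _)

end Cfsg.Agent.KLog
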