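import Cfsg.Agent.KLog.B
import Cfsg.Agent.Solv.MinNormal
import Cfsg.Agent.Solv.Fitting
import Mathlib.Analysis.SpecialFunctions.Log.Base

/-! Class numbers of solvable groups, logarithmic lower bound: reduction to `Core`. -/

set_option autoImplicit false

namespace Cfsg.Agent.KLog

open Subgroup Cfsg.Agent.CH.Reg Cfsg.Agent.CH.Kc
open scoped commutatorElement IsMulCommutative

theorem red_small {p k : ℕ} (hp : p.Prime) (h : p < 53) (hk : 3 ≤ k) :
    (p : ℝ) / (3 * Real.logb 2 p) ≤ k := by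
  have h1 : ∀ p < 52, 2 ≤ p → 2 ^ p ≤ p ^ 9 := by decide
  have h2 : p < 52 := lt_of_le_of_ne (by omega) fun e => by rw [e] at hp; norm_num at hp
  have h3 : (2 : ℝ) ^ p ≤ (p : ℝ) ^ 9 := by exact_mod_cast h1 p h2 hp.two_le
  have h4 := Real.logb_le_logb_of_le (b := 2) (by norm_num) (by positivity) h3
  rw [Real.logb_pow, Real.logb_pow, Real.logb_self_eq_one (by norm_num), mul_one] at h4
  have h5 : 0 < Real.logb 2 p := Real.logb_pos (by norm_num) (by exact_mod_cast hp.one_lt)
  have h6 : (3 : ℝ) ≤ k := by exact_mod_cast hk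
  rw [div_le_iff₀ (by positivity)]
  push_cast at h4
  nlinarith

theorem red_big {p k j m : ℕ} (h : 53 ≤ p) (hm : 0 < m) (h1 : p - 1 ≤ j * m) (h2 : j + 1 ≤ k)
    (h3 : 2 ^ m ≤ (k * m) ^ 3) : (p : ℝ) / (3 * Real.logb 2 p) ≤ k := by
  have hp : (53 : ℝ) ≤ p := by exact_mod_cast h
  have l2 : 0 < Real.log 2 := Real.log_pos (by norm_num)
  have lp : 1 ≤ Real.log p := by
    rw [Real.le_log_iff_exp_le (by positivity)]
    have := Real.exp_one_lt_d9
    linarith
  have hL : Real.logb 2 p * Real.log 2 = Real.log p := div_mul_cancel₀ _ l2.ne'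
  set L := Real.logb 2 p with hLd
  have l21 : Real.log 2 ≤ 1 := by
    have := Real.log_le_sub_one_of_pos (show (0 : ℝ) < 2 by norm_num)
    linarith
  have L0 : 0 < L := Real.logb_pos (by norm_num) (by linarith)
  have L1 : 1 ≤ L := by nlinarith
  have h1' : (p : ℝ) - 1 ≤ j * m := by
    have : ((p - 1 : ℕ) : ℝ) ≤ (j * m : ℕ) := by exact_mod_cast h1
    rw [Nat.cast_sub (by omega)] at this
    exact_mod_cast this
  have h2' : (j : ℝ) + 1 ≤ k := by exact_mod_cast h2
  have hj : (0 : ℝ) ≤ j := by positivity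
  have hm' : (0 : ℝ) < m := by exact_mod_cast hm
  rw [div_le_iff₀ (by positivity)]
  by_cases c : (m : ℝ) ≤ 3 * L
  · nlinarith
  push Not at c
  by_contra c2
  push Not at c2
  have hk : (0 : ℝ) < k := by linarith
  have h4 : (2 : ℝ) ^ m ≤ ((k : ℝ) * m) ^ 3 := by exact_mod_cast h3
  have h5 := Real.log_le_log (by positivity) h4
  rw [Real.log_pow, Real.log_pow] at h5
  have h6 : (k : ℝ) * m ≤ p * (m / (3 * L)) := by
    rw [← mul_div_assoc, le_div_iff₀ (by positivity)]
    nlinarith
  have h7 := Real.log_le_log (by positivity) h6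
  have h8 := Real.log_le_sub_one_of_pos (show (0 : ℝ) < m / (3 * L) by positivity)
  have h10 : (k : ℝ) * m < p * (m / (3 * L)) := by
    rw [← mul_div_assoc, lt_div_iff₀ (by positivity)]
    nlinarith
  have h11 := Real.log_lt_log (by positivity) h10
  rw [Real.log_mul (by positivity) (by positivity : (m : ℝ) / (3 * L) ≠ 0)] at h11
  obtain ⟨t, ht⟩ : ∃ t : ℝ, t = m / (3 * L) := ⟨_, rfl⟩
  have h9 : (m : ℝ) = t * (3 * L) := by rw [ht, div_mul_cancel₀ _ (by positivity)]
  rw [← ht] at h8 h11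
  have t1 : 1 < t := by rw [ht, lt_div_iff₀ (by positivity)]; linarith
  push_cast at h5
  have h12 : (m : ℝ) * Real.log 2 = 3 * t * Real.log p := by rw [h9, ← hL]; ring
  nlinarith

theorem red_aux (hc : Core) (p : ℕ) [hpp : Fact p.Prime] (n : ℕ) :
    ∀ (G : Type) [Group G] [Finite G] [Group.IsSolvable G], Nat.card G ≤ n →
      p ∣ (pCore p G).index → (p : ℝ) / (3 * Real.logb 2 p) ≤ Nat.card (ConjClasses G) := by
  classical
  induction n with
  | zero => exact fun G _ _ _ h => absurd h (not_le.2 Nat.card_pos)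
  | succ n ih =>
  intro G _ _ _ hn hp
  have quo : ∀ (N : Subgroup G) [N.Normal], N ≠ ⊥ → p ∣ (pCore p (G ⧸ N)).index →
      (p : ℝ) / (3 * Real.logb 2 p) ≤ Nat.card (ConjClasses G) := fun N _ h0 h => by
    refine (ih (G ⧸ N) ?_ h).trans ?_
    · have h1 := N.card_mul_index
      have h2 := N.one_lt_card_iff_ne_bot.2 h0
      have h3 : 0 < N.index := Nat.pos_of_ne_zero index_ne_zero_of_finite
      change N.index ≤ n
      nlinarith
    · exact_mod_cast k_le_of_surj _ (QuotientGroup.mk'_surjective N)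
  by_cases hP : pCore p G = ⊥
  swap
  · refine quo (pCore p G) hP ?_
    have h1 : (pCore p (G ⧸ pCore p G)).comap (QuotientGroup.mk' _) ≤ pCore p G :=
      Solv.le_pCore ((Solv.isPGroup_pCore p _).comap_of_ker_isPGroup _ (by
        rw [QuotientGroup.ker_mk']; exact Solv.isPGroup_pCore p G))
    rw [← index_comap_of_surjective _ (QuotientGroup.mk'_surjective _)]
    exact hp.trans (index_dvd_of_le h1)
  rw [hP, index_bot] at hp
  haveI : Nontrivial G := Finite.one_lt_card_iff_nontrivial.1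
    (hpp.out.one_lt.trans_le (Nat.le_of_dvd Nat.card_pos hp))
  obtain ⟨V, hVn, hV0, hVm⟩ := Solv.exists_minimal_normal G
  obtain ⟨hVc, r, hr, hVr⟩ := Solv.elementary_of_minimal_normal hV0 hVm
  haveI := Fact.mk hr
  have hVP : IsPGroup r V := fun x => ⟨1, Subtype.ext (by simpa using hVr x x.2)⟩
  have hrp : r ≠ p := by
    rintro rfl
    exact hV0 (eq_bot_iff.2 (hP ▸ Solv.le_pCore hVP))
  have hpV : ¬ p ∣ Nat.card V := fun h => by
    obtain ⟨k, hk⟩ := hVP.exists_card_eq
    rw [hk] at h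
    exact hrp ((Nat.prime_dvd_prime_iff_eq hpp.out hr).1 (hpp.out.dvd_of_dvd_pow h)).symm
  have hpH : p ∣ Nat.card (G ⧸ V) := by
    rw [← V.card_mul_index] at hp
    exact ((Nat.Prime.dvd_mul hpp.out).1 hp).resolve_left hpV
  by_cases h1 : p ∣ (pCore p (G ⧸ V)).index
  · exact quo V hV0 h1
  obtain ⟨A, hAn, hA0, hAP, hAm⟩ := Solv.exists_minimal_normal_le (pCore p (G ⧸ V)) fun h => by
    rw [h, index_bot] at h1
    exact h1 hpH
  obtain ⟨hAc, s, hs, hAs⟩ := Solv.elementary_of_minimal_normal hA0 hAm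
  obtain ⟨a, haA, ha1⟩ := (A.bot_or_exists_ne_one).resolve_left hA0
  obtain rfl : s = p := by
    haveI := Fact.mk hs
    obtain ⟨k, hk⟩ := Solv.isPGroup_pCore p (G ⧸ V) ⟨a, hAP haA⟩
    have h2 := orderOf_dvd_of_pow_eq_one (show a ^ p ^ k = 1 from congrArg Subtype.val hk)
    rw [orderOf_eq_prime (hAs a haA) ha1] at h2
    exact (Nat.prime_dvd_prime_iff_eq hs hpp.out).1 (hs.dvd_of_dvd_pow h2)
  let π := QuotientGroup.mk' V
  have hπ := QuotientGroup.mk'_surjective V
  letI i1 := conjAct V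
  let ψ : G ⧸ V →* AddMonoid.End (Additive V) :=
    QuotientGroup.lift V (DistribMulAction.toAddMonoidEnd G (Additive V)) fun g hg => by
      refine AddMonoidHom.ext fun v => Additive.toMul.injective (Subtype.ext ?_)
      change g * (v.toMul : G) * g⁻¹ = v.toMul
      rw [mul_inv_eq_iff_eq_mul]
      exact congrArg Subtype.val (mul_comm (⟨g, hg⟩ : V) v.toMul)
  letI i2 : DistribMulAction (G ⧸ V) (Additive V) := DistribMulAction.compHom _ ψ
  have act : ∀ (g : G) (v : Additive V), (((π g • v).toMul : V) : G) = g * v.toMul * g⁻¹ :=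
    fun _ _ => rfl
  haveI : Nontrivial V := (nontrivial_iff_ne_bot V).2 hV0
  have fix : ∀ v : Additive V, (∀ x ∈ A, x • v = v) → v = 0 := fun v hv => by
    set B := A.comap π with hB
    have hvL : ((v.toMul : V) : G) ∈ V ⊓ centralizer (B : Set G) := ⟨v.toMul.2, fun b hb => by
      rw [← mul_inv_eq_iff_eq_mul, ← act, hv _ hb]⟩
    rcases hVm (V ⊓ centralizer (B : Set G)) inferInstance inf_le_left with h | h
    · rw [h, mem_bot] at hvL
      exact Additive.toMul.injective (Subtype.ext hvL)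
    exfalso
    have h2 : V ≤ centralizer (B : Set G) := h.ge.trans inf_le_right
    haveI : Group.IsNilpotent B := by
      refine ⟨2, eq_top_iff.2 fun x _ => Subgroup.mem_upperCentralSeries_succ_iff.2 fun y => ?_⟩
      rw [Subgroup.upperCentralSeries_one, mem_center_iff]
      intro z
      refine Subtype.ext (h2 (x := ⁅(x : G), (y : G)⁆) ?_ z z.2)
      rw [← QuotientGroup.eq_one_iff]
      change π _ = 1
      rw [map_commutatorElement, commutatorElement_eq_one_iff_mul_comm]
      exact congrArg Subtype.val (mul_comm (⟨π x, x.2⟩ : A) ⟨π y, y.2⟩)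
    obtain ⟨x, rfl⟩ := hπ a
    have h3 : x ^ s ∈ V := (QuotientGroup.eq_one_iff _).1 (by
      change π _ = 1
      rw [map_pow]
      exact hAs _ haA)
    have h4 : (x ^ r) ^ s = 1 := by rw [← pow_mul, mul_comm, pow_mul]; exact hVr _ h3
    have h5 : IsPGroup s (zpowers (x ^ r)) := by
      rintro ⟨_, k, rfl⟩
      refine ⟨1, Subtype.ext ?_⟩
      change ((x ^ r) ^ k) ^ s ^ 1 = 1
      rw [pow_one, ← zpow_natCast, ← zpow_mul, mul_comm, zpow_mul, zpow_natCast, h4, one_zpow]
    have h6 := Solv.le_pCore_of_le_fitting h5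
      ((zpowers_le.2 (B.pow_mem (show x ∈ B from haA) r)).trans Solv.le_fitting) (mem_zpowers _)
    rw [hP, mem_bot] at h6
    have h7 : π x ^ r = 1 := by rw [← map_pow, h6, map_one]
    have h8 := orderOf_dvd_of_pow_eq_one h7
    rw [orderOf_eq_prime (hAs _ haA) ha1] at h8
    exact hrp ((Nat.prime_dvd_prime_iff_eq hpp.out hr).1 h8).symm
  haveI := fin_cc G
  haveI := fin_cc (G ⧸ V)
  have hsur := ConjClasses.map_surjective hπ
  have cnt := Nat.card_le_card_of_injective
    (Sum.elim (fun c : {c : ConjClasses (G ⧸ V) // c ≠ ConjClasses.mk 1} =>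
      Function.surjInv hsur c.1)
      fun ω : MulAction.orbitRel.Quotient (G ⧸ V) (Additive V) =>
        ConjClasses.mk ((ω.out.toMul : V) : G)) (by
    have e1 : ∀ v : V, ConjClasses.map π (ConjClasses.mk (v : G)) = ConjClasses.mk 1 := fun v => by
      change ConjClasses.mk (π v) = _
      rw [show π v = 1 from (QuotientGroup.eq_one_iff _).2 v.2]
    rintro (c | ω) (d | η) h
    · exact congrArg _ (Subtype.ext (Function.injective_surjInv hsur h))
    · have := congrArg (ConjClasses.map π) h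
      simp only [Sum.elim_inl, Sum.elim_inr] at this
      rw [e1, Function.surjInv_eq hsur] at this
      exact absurd this c.2
    · have := congrArg (ConjClasses.map π) h
      simp only [Sum.elim_inl, Sum.elim_inr] at this
      rw [e1, Function.surjInv_eq hsur] at this
      exact absurd this.symm d.2
    · obtain ⟨g, hg⟩ := isConj_iff.1 (ConjClasses.mk_eq_mk_iff_isConj.1 h)
      congr 1
      rw [← Quotient.out_eq' ω, ← Quotient.out_eq' η]
      have e2 : π g • Quotient.out ω = Quotient.out η :=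
        Additive.toMul.injective (Subtype.ext ((act g _).trans hg))
      exact (Quotient.sound' (MulAction.orbitRel_apply.2 ⟨π g, e2⟩)).symm)
  have c1 := Nat.card_congr (Equiv.optionSubtypeNe (ConjClasses.mk (1 : G ⧸ V)))
  rw [Finite.card_option] at c1
  rw [Nat.card_sum] at cnt
  have c2 : 1 < Nat.card (ConjClasses (G ⧸ V)) := Finite.one_lt_card_iff_nontrivial.2
    ⟨ConjClasses.mk 1, ConjClasses.mk a, fun h =>
      ha1 (isConj_one_right.1 (ConjClasses.mk_eq_mk_iff_isConj.1 h))⟩
  have c3 : 1 < Nat.card (MulAction.orbitRel.Quotient (G ⧸ V) (Additive V)) := by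
    obtain ⟨v, hv⟩ := exists_ne (0 : Additive V)
    refine Finite.one_lt_card_iff_nontrivial.2 ⟨Quotient.mk'' v, Quotient.mk'' 0, fun h => hv ?_⟩
    obtain ⟨g, hg⟩ := Quotient.exact' h
    exact hg.symm.trans (smul_zero g)
  by_cases hb : s < 53
  · exact red_small hpp.out hb (by omega)
  obtain ⟨m, hm, m1, m2⟩ := hc (G ⧸ V) (Additive V) s hpp.out (by omega) A hAn
    (fun x hx y hy => congrArg Subtype.val (mul_comm (⟨x, hx⟩ : A) ⟨y, hy⟩)) hAs hpV fix
  exact red_big (by omega) hm m1 (by omega)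
    (m2.trans (Nat.pow_le_pow_left (Nat.mul_le_mul_right _ (by omega)) 3))

theorem red (hc : Core) {G : Type*} [Group G] [Finite G] (hG : Group.IsSolvable G) (p : ℕ)
    [Fact p.Prime] (hp : p ∣ (Cfsg.fittingSubgroup G).index) :
    (p : ℝ) / (3 * Real.logb 2 p) ≤ Nat.card (ConjClasses G) := by
  let e : Shrink.{0} G ≃* G := Shrink.mulEquiv
  haveI : Finite (Shrink.{0} G) := Finite.of_equiv _ e.symm.toEquiv
  haveI : Group.IsSolvable (Shrink.{0} G) :=
    Group.isSolvable_of_isSolvable_injective (f := e.toMonoidHom) e.injective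
  have h1 : p ∣ (pCore p (Shrink.{0} G)).index := by
    rw [← Solv.map_fitting_equiv e, index_map_equiv] at hp
    exact hp.trans (index_dvd_of_le Solv.pCore_le_fitting)
  refine (red_aux hc p _ (Shrink.{0} G) le_rfl h1).trans ?_
  haveI : Finite (ConjClasses G) := Finite.of_surjective _ ConjClasses.mk_surjective
  exact_mod_cast Nat.card_le_card_of_surjective _
    (ConjClasses.map_surjective (f := e.symm.toMonoidHom) e.symm.surjective)

end Cfsg.Agent.KLog
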